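import Groth.Agent.Lib.ModExtZero.KFlat
import Groth.Prelude.Def_ModSite2
import Mathlib.CategoryTheory.Sites.Point.Over
import Mathlib.Algebra.Category.Grp.Limits

/-! # The stalk of an extension by zero -/

set_option autoImplicit false
set_option linter.all false
set_option maxHeartbeats 800000
set_option backward.isDefEq.respectTransparency false
set_option backward.isDefEq.respectTransparency.types false
universe u

open CategoryTheory Opposite Limits DirectSum GrothLib.SheafCoh GrothLib.ModExtZero

noncomputable section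

namespace GrothLib.ExtStalk25

variable {C : Type u} [SmallCategory C] {J : GrothendieckTopology C} {O : Sheaf J CommRingCat.{u}} {U : C}
  (G : PMod' (O.over U)) (p : GrothendieckTopology.Point.{u} J)

/-- The sum of the stalks over the points above `p`. -/
abbrev sumFiber : AddCommGrpCat.{u} := ∐ fun x : p.fiber.obj U => (p.over x).presheafFiber.obj G.presheaf

/-- A component at a neighbourhood, in the sum of the stalks. -/
def compFiber (V : C) (y : p.fiber.obj V) (φ : V ⟶ U) :
    G.presheaf.obj (op (Over.mk φ)) ⟶ sumFiber G p :=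
  (p.over (p.fiber.map φ y)).toPresheafFiber (Over.mk φ) ⟨y, rfl⟩ G.presheaf ≫
    Sigma.ι (fun x : p.fiber.obj U => (p.over x).presheafFiber.obj G.presheaf) (p.fiber.map φ y)

theorem toFiber_congr (V : C) (φ : V ⟶ U) (x : p.fiber.obj U) (y : p.fiber.obj V) (hy : p.fiber.map φ y = x) :
    compFiber G p V y φ =
      (p.over x).toPresheafFiber (Over.mk φ) ⟨y, hy⟩ G.presheaf ≫
        Sigma.ι (fun x : p.fiber.obj U => (p.over x).presheafFiber.obj G.presheaf) x := by
  subst hy
  rfl

open scoped Classical in
/-- From the sum presheaf at a neighbourhood. -/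
def sumFiberDesc (V : C) (y : p.fiber.obj V) : (sumPre G).obj (op V) ⟶ sumFiber G p :=
  AddCommGrpCat.ofHom (DirectSum.toAddMonoid fun φ => (compFiber G p V y φ).hom)

open scoped Classical in
theorem sumFiberDesc_of (V : C) (y : p.fiber.obj V) (φ : V ⟶ U) (g : comp G (op V) φ) :
    sumFiberDesc G p V y (DirectSum.of (fun χ => comp G (op V) χ) φ g) = compFiber G p V y φ g :=
  DirectSum.toAddMonoid_of _ _ _

open scoped Classical in
theorem sumFiberDesc_natural {V W : C} (f : W ⟶ V) (y : p.fiber.obj W) :
    (sumPre G).map f.op ≫ sumFiberDesc G p W y = sumFiberDesc G p V (p.fiber.map f y) := by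
  ext : 1
  refine DirectSum.addHom_ext fun φ g => ?_
  refine (congrArg (sumFiberDesc G p W y) (sumMap_of G f.op φ g)).trans ?_
  refine ((sumFiberDesc_of G p W y (f ≫ φ) _).trans ?_).trans (sumFiberDesc_of G p V (p.fiber.map f y) φ g).symm
  have hy : p.fiber.map (f ≫ φ) y = p.fiber.map φ (p.fiber.map f y) := by simp
  rw [toFiber_congr G p W (f ≫ φ) _ y hy]
  refine congrArg (Sigma.ι (fun x : p.fiber.obj U => (p.over x).presheafFiber.obj G.presheaf) _) ?_
  exact ConcreteCategory.congr_hom ((p.over (p.fiber.map φ (p.fiber.map f y))).toPresheafFiber_w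
    (Over.homMk f : Over.mk (f ≫ φ) ⟶ Over.mk φ)
    ⟨y, hy⟩ G.presheaf) g

/-- From the stalk of the sum presheaf. -/
def toSumFiber : p.presheafFiber.obj (sumPre G) ⟶ sumFiber G p :=
  p.presheafFiberDesc (sumFiberDesc G p) (fun X Y f x => sumFiberDesc_natural G p f x)

open scoped Classical in
/-- A component, as a map. -/
def inclHom (V : C) (φ : V ⟶ U) : G.presheaf.obj (op (Over.mk φ)) ⟶ (sumPre G).obj (op V) :=
  AddCommGrpCat.ofHom (DirectSum.of (fun χ => comp G (op V) χ) φ)

open scoped Classical in
theorem inclHom_natural {P Q : Over U} (f : Q ⟶ P) :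
    G.presheaf.map f.op ≫ inclHom G Q.left Q.hom = inclHom G P.left P.hom ≫ (sumPre G).map f.left.op := by
  ext g
  have h := incl_natural G (P := op P) (Q := op Q) f.op g
  simp only [incl, DirectSum.lof_eq_of] at h
  exact h

/-- To the stalk of the sum presheaf. -/
def ofSumFiber : sumFiber G p ⟶ p.presheafFiber.obj (sumPre G) :=
  Sigma.desc fun x => (p.over x).presheafFiberDesc
    (fun P z => inclHom G P.left P.hom ≫ p.toPresheafFiber P.left z.1 (sumPre G))
    (fun {Q P} f z => by
      rw [← Category.assoc, inclHom_natural G f, Category.assoc, p.toPresheafFiber_w]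
      rfl)

theorem π_toSumFiber (V : C) (y : p.fiber.obj V) :
    p.toPresheafFiber V y (sumPre G) ≫ toSumFiber G p = sumFiberDesc G p V y :=
  p.toPresheafFiber_presheafFiberDesc (sumFiberDesc G p) (fun X Y f x => sumFiberDesc_natural G p f x) V y

theorem π_ofSumFiber (x : p.fiber.obj U) (P : Over U) (z : (p.over x).fiber.obj P) :
    (p.over x).toPresheafFiber P z G.presheaf ≫
      Sigma.ι (fun x : p.fiber.obj U => (p.over x).presheafFiber.obj G.presheaf) x ≫ ofSumFiber G p =
      inclHom G P.left P.hom ≫ p.toPresheafFiber P.left z.1 (sumPre G) := by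
  rw [ofSumFiber, Sigma.ι_desc]
  exact (p.over x).toPresheafFiber_presheafFiberDesc _ _ P z

theorem isIso_toSumFiber : IsIso (toSumFiber G p) := by
  refine ⟨ofSumFiber G p, ?_, ?_⟩
  · refine p.presheafFiber_hom_ext fun V y => ?_
    rw [← Category.assoc, π_toSumFiber, Category.comp_id]
    classical
    ext : 1
    refine DirectSum.addHom_ext fun φ g => ?_
    refine (congrArg (ofSumFiber G p) (sumFiberDesc_of G p V y φ g)).trans ?_
    have e : compFiber G p V y φ ≫ ofSumFiber G p = inclHom G V φ ≫ p.toPresheafFiber V y (sumPre G) := by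
      rw [compFiber, Category.assoc, π_ofSumFiber]
      rfl
    exact ConcreteCategory.congr_hom e g
  · refine Sigma.hom_ext _ _ fun x => (p.over x).presheafFiber_hom_ext fun P z => ?_
    rw [reassoc_of% (π_ofSumFiber G p x P z), π_toSumFiber, Category.comp_id]
    obtain ⟨V, φ, rfl⟩ := Over.mk_surjective P
    obtain ⟨y, hy⟩ := z
    classical
    ext g
    refine (sumFiberDesc_of G p V y φ g).trans ?_
    exact ConcreteCategory.congr_hom (toFiber_congr G p V φ x y
      hy) g

/-- The stalk of an extension by zero is the sum of the stalks above. -/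
theorem nonempty_stalk_extZero_iso (O : Sheaf J CommRingCat.{u}) (U : C) (G : ModSite.Mod (O.over U)) :
    Nonempty (ModSite.stalkAb p ((ModSite.extZero O U).obj G) ≅
      ∐ fun x : p.fiber.obj U => ModSite.stalkAb (p.over x) G) := by
  let E := (extP O U).obj ((forgetP (O.over U)).obj G)
  let η := (PresheafOfModules.toPresheaf _).map ((shfAdj O).unit.app E)
  have := isLocallyInjective_unit O E
  have := isLocallySurjective_unit O E
  have : IsIso (p.presheafFiber.map η) := by
    rw [ConcreteCategory.isIso_iff_bijective]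
    exact p.toPresheafFiber_map_bijective η
  have := isIso_toSumFiber ((forgetP (O.over U)).obj G) p
  exact ⟨((SheafOfModules.toSheaf (ModSite.ringSh O) ⋙ p.sheafFiber).mapIso ((extZeroIso O U).app G)).symm ≪≫
    (asIso (p.presheafFiber.map η)).symm ≪≫ asIso (toSumFiber ((forgetP (O.over U)).obj G) p)⟩

end GrothLib.ExtStalk25
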